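import Mathlib.RingTheory.Flat.Equalizer
import Mathlib.RingTheory.IsTensorProduct
import Mathlib.LinearAlgebra.TensorProduct.Pi

set_option autoImplicit false
universe u
open TensorProduct

namespace H5AnnBC

variable {A A' S S' : Type u} [CommRing A] [CommRing A'] [CommRing S] [CommRing S']
  [Algebra A A'] [Algebra A S] [Algebra A' S'] [Algebra A S'] [IsScalarTower A A' S']

/-- flat base change of the common annihilator of finitely many elements -/
theorem mem_span_of_forall_mul_eq_zero [Module.Flat A A'] (g : S →ₐ[A] S')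
    (hg : IsBaseChange A' g.toLinearMap) {n : ℕ} (x : Fin n → S) (ξ' : S')
    (hξ : ∀ j, ξ' * g (x j) = 0) :
    ξ' ∈ Submodule.span A' (g '' {ξ : S | ∀ j, ξ * x j = 0}) := by
  classical
  let φ : S →ₗ[A] (Fin n → S) := LinearMap.pi fun j => LinearMap.mulRight A (x j)
  have hφ : ∀ ξ j, φ ξ j = ξ * x j := fun ξ j => rfl
  have hker : ∀ ξ, ξ ∈ LinearMap.ker φ ↔ ∀ j, ξ * x j = 0 := by
    intro ξ
    rw [LinearMap.mem_ker]
    constructor
    · intro h j
      rw [← hφ, h]; rfl
    · intro h
      ext j
      rw [hφ, h]; rfl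
  have hflat := Module.Flat.ker_lTensor_eq (R := A) A' A' φ
  let t : A' ⊗[A] S := hg.equiv.symm ξ'
  have ht : hg.equiv t = ξ' := LinearEquiv.apply_symm_apply _ _
  -- key computation
  have hcomp : ∀ (u : A' ⊗[A] S) (j : Fin n),
      hg.equiv (TensorProduct.piRight A A' A' (fun _ : Fin n => S)
        (AlgebraTensorModule.lTensor A' A' φ u) j) = hg.equiv u * g (x j) := by
    intro u j
    induction u using TensorProduct.induction_on with
    | zero => simp
    | add a b ha hb =>
      simp only [map_add, Pi.add_apply, add_mul] at ha hb ⊢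
      rw [ha, hb]
    | tmul a s =>
      simp only [AlgebraTensorModule.lTensor_tmul, TensorProduct.piRight_apply,
        TensorProduct.piRightHom_tmul, IsBaseChange.equiv_tmul, hφ]
      simp only [AlgHom.toLinearMap_apply, map_mul, smul_mul_assoc]
  have ht0 : AlgebraTensorModule.lTensor A' A' φ t = 0 := by
    apply (TensorProduct.piRight A A' A' (fun _ : Fin n => S)).injective
    rw [map_zero]
    ext j
    apply hg.equiv.injective
    rw [hcomp, ht, hξ]
    simp
  have ht1 : t ∈ LinearMap.ker (AlgebraTensorModule.lTensor A' A' φ) := ht0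
  rw [hflat] at ht1
  obtain ⟨u, hu⟩ := ht1
  rw [← ht, ← hu]
  clear hu
  -- image of tensors with kernel elements
  induction u using TensorProduct.induction_on with
  | zero => simp
  | add a b ha hb =>
    rw [map_add, map_add]
    exact Submodule.add_mem _ ha hb
  | tmul a k =>
    simp only [AlgebraTensorModule.lTensor_tmul, Submodule.subtype_apply,
      IsBaseChange.equiv_tmul]
    refine Submodule.smul_mem _ _ (Submodule.subset_span ⟨k.1, (hker k.1).mp k.2, rfl⟩)

end H5AnnBC
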