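import Mathlib.Algebra.Module.FinitePresentation
import Mathlib.LinearAlgebra.Dual.Lemmas
import Mathlib.RingTheory.Localization.FractionRing
import Mathlib.RingTheory.Ideal.AssociatedPrime.Basic
import Mathlib.RingTheory.Ideal.GoingUp
import Mathlib.RingTheory.Noetherian.Basic
import Groth.Prelude.Def_Disc

set_option autoImplicit false
universe u v
open Disc

namespace H5AssOmega

/-- A finitely presented module over a domain with a non-torsion element `m` has a functional
not vanishing at `m`. -/
theorem exists_functional_ne_zero {R M : Type*} [CommRing R] [IsDomain R] [AddCommGroup M]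
    [Module R M] [Module.FinitePresentation R M] (m : M) (hm : ∀ r : R, r • m = 0 → r = 0) :
    ∃ ψ : M →ₗ[R] R, ψ m ≠ 0 := by
  classical
  let S := nonZeroDivisors R
  let K := FractionRing R
  let V := LocalizedModule S M
  let W := LocalizedModule S R
  have hv : (LocalizedModule.mkLinearMap S M m : V) ≠ 0 := by
    intro h
    rw [IsLocalizedModule.eq_zero_iff S] at h
    obtain ⟨s, hs⟩ := h
    have := hm s.1 hs
    exact nonZeroDivisors.coe_ne_zero s this
  have hw : (LocalizedModule.mkLinearMap S R 1 : W) ≠ 0 := by
    intro h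
    rw [IsLocalizedModule.eq_zero_iff S] at h
    obtain ⟨s, hs⟩ := h
    have : (s : R) = 0 := by
      rw [Submonoid.smul_def, smul_eq_mul, mul_one] at hs; exact hs
    exact nonZeroDivisors.coe_ne_zero s this
  obtain ⟨f, hf⟩ : ∃ f : Module.Dual K V, f (LocalizedModule.mkLinearMap S M m) ≠ 0 :=
    Module.Projective.exists_dual_ne_zero K hv
  let F : V →ₗ[K] W := f.smulRight (LocalizedModule.mkLinearMap S R 1 : W)
  obtain ⟨⟨ψ, s⟩, hs⟩ := IsLocalizedModule.surj S (LocalizedModule.map S (M := M) (N := R)) F
  refine ⟨ψ, fun h0 => ?_⟩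
  have h1 := LinearMap.congr_fun hs (LocalizedModule.mkLinearMap S M m)
  simp only [LocalizedModule.mkLinearMap_apply, LinearMap.smul_apply] at h1
  rw [LocalizedModule.map_mk, h0, LocalizedModule.zero_mk] at h1
  have h2 : F (LocalizedModule.mk m 1) = 0 := by
    have := (Module.End.isUnit_iff _).mp (IsLocalizedModule.map_units (S := S)
      (f := LocalizedModule.mkLinearMap S R) s)
    apply this.1
    rw [map_zero, Module.algebraMap_end_apply]
    exact h1
  simp only [F, LinearMap.smulRight_apply, smul_eq_zero] at h2
  rcases h2 with h2 | h2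
  · exact hf h2
  · exact hw h2

end H5AssOmega
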