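import Mathlib.Algebra.Module.FinitePresentation
import Mathlib.LinearAlgebra.Dual.Lemmas
import Mathlib.RingTheory.Localization.FractionRing
import Mathlib.RingTheory.Ideal.AssociatedPrime.Basic
import Mathlib.RingTheory.Ideal.GoingUp
import Mathlib.RingTheory.Noetherian.Basic
import Mathlib.RingTheory.Ideal.Quotient.Noetherian
import Groth.Prelude.Def_Disc
import Groth.Agent.Lib.Helper5.Disc.AssFunctional

set_option autoImplicit false
universe u v
open Disc

namespace H5AssOmega

variable {A : Type u} {B : Type v} [CommRing A] [CommRing B] [Algebra A B]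

theorem smul_eq_zero_iff (b : B) (φ : Disc.Omega A B) :
    b • φ = 0 ↔ ∀ x, φ.toLinearMap (b * x) = 0 := by
  constructor
  · intro h x
    have := congrArg (fun ψ : Disc.Omega A B => ψ.toLinearMap x) h
    simpa using this
  · intro h
    ext x
    simpa using h x

theorem forward [IsNoetherianRing A] [IsNoetherianRing B] [Module.Finite A B]
    (q : Ideal B) (hq : q ∈ associatedPrimes B (Disc.Omega A B)) :
    q.IsPrime ∧ q.comap (algebraMap A B) ∈ associatedPrimes A A := by
  classical
  obtain ⟨hqp, φ, hφ⟩ := isAssociatedPrime_iff.mp hq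
  refine ⟨hqp, ?_⟩
  have hmem : ∀ a : A, a ∈ q.comap (algebraMap A B) ↔ ∀ x, a * φ.toLinearMap x = 0 := by
    intro a
    rw [Ideal.mem_comap, hφ, Submodule.mem_colon_singleton, Submodule.mem_bot, smul_eq_zero_iff]
    refine forall_congr' fun x => ?_
    rw [← Algebra.smul_def, map_smul, smul_eq_mul]
  obtain ⟨s, hs⟩ := (Module.Finite.fg_top : (⊤ : Submodule A B).FG)
  have hp : (q.comap (algebraMap A B)).IsPrime := Ideal.comap_isPrime _ _
  have hle : s.inf (fun b => (⊥ : Submodule A A).colon {φ.toLinearMap b}) ≤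
      q.comap (algebraMap A B) := by
    intro a ha
    rw [hmem]
    intro x
    have hx : x ∈ Submodule.span A (s : Set B) := by rw [hs]; trivial
    induction hx using Submodule.span_induction with
    | mem y hy =>
      have := (Finset.inf_le hy : s.inf (fun b => (⊥ : Submodule A A).colon {φ.toLinearMap b}) ≤ _) ha
      rw [Submodule.mem_colon_singleton, Submodule.mem_bot, smul_eq_mul] at this
      exact this
    | zero => simp
    | add y z _ _ hy hz => rw [map_add, mul_add, hy, hz, add_zero]
    | smul c y _ hy => rw [map_smul, smul_eq_mul, mul_left_comm, hy, mul_zero]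
  obtain ⟨b, -, hb⟩ := hp.inf_le'.mp hle
  rw [associatedPrimes, Set.mem_ofPred_eq, isAssociatedPrime_iff]
  refine ⟨hp, φ.toLinearMap b, le_antisymm ?_ hb⟩
  intro a ha
  rw [Submodule.mem_colon_singleton, Submodule.mem_bot, smul_eq_mul]
  exact (hmem a).mp ha b

theorem backward [IsNoetherianRing A] [IsNoetherianRing B] [Module.Finite A B]
    (q : Ideal B) [hq : q.IsPrime] (hp : q.comap (algebraMap A B) ∈ associatedPrimes A A) :
    q ∈ associatedPrimes B (Disc.Omega A B) := by
  classical
  obtain ⟨hpp, ι, hι⟩ := (isAssociatedPrime_iff_exists_injective_linearMap _ _).mp hp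
  let R := A ⧸ q.comap (algebraMap A B)
  let M := B ⧸ q
  haveI : IsDomain R := Ideal.Quotient.isDomain _
  haveI : IsDomain M := Ideal.Quotient.isDomain _
  haveI : Module.Finite A M := Module.Finite.of_surjective
    ((Submodule.mkQ q).restrictScalars A) (Submodule.mkQ_surjective q)
  haveI : Module.Finite R M := Module.Finite.of_restrictScalars_finite A R M
  haveI : Module.FinitePresentation R M := Module.finitePresentation_of_finite R M
  have hinj : Function.Injective (algebraMap R M) := Ideal.algebraMap_quotient_injective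
  obtain ⟨ψ, hψ⟩ := exists_functional_ne_zero (R := R) (M := M) 1 (by
    intro r hr
    rw [Algebra.smul_def, mul_one] at hr
    exact (map_eq_zero_iff _ hinj).mp hr)
  let φ : Disc.Omega A B :=
    ⟨ι ∘ₗ (ψ.restrictScalars A) ∘ₗ ((Submodule.mkQ q).restrictScalars A)⟩
  have hφ : ∀ x : B, φ.toLinearMap x = ι (ψ (Ideal.Quotient.mk q x)) := fun x => rfl
  rw [associatedPrimes, Set.mem_ofPred_eq, isAssociatedPrime_iff]
  refine ⟨hq, φ, ?_⟩
  ext b
  rw [Submodule.mem_colon_singleton, Submodule.mem_bot, smul_eq_zero_iff]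
  constructor
  · intro hb x
    rw [hφ, map_mul, Ideal.Quotient.eq_zero_iff_mem.mpr hb, zero_mul, map_zero, map_zero]
  · intro h
    by_contra hb
    have hb0 : (Ideal.Quotient.mk q b : M) ≠ 0 := fun h0 => hb (Ideal.Quotient.eq_zero_iff_mem.mp h0)
    haveI : Algebra.IsIntegral R M := Algebra.IsIntegral.of_finite R M
    have hne := Ideal.comap_ne_bot_of_integral_mem (R := R) hb0
      (Ideal.mem_span_singleton_self (Ideal.Quotient.mk q b)) (Algebra.IsIntegral.isIntegral _)
    obtain ⟨c, hc, hc0⟩ := Submodule.exists_mem_ne_zero_of_ne_bot hne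
    rw [Ideal.mem_comap, Ideal.mem_span_singleton'] at hc
    obtain ⟨y', hy'⟩ := hc
    obtain ⟨y, rfl⟩ := Ideal.Quotient.mk_surjective y'
    have h1 := h y
    rw [hφ, mul_comm, map_mul, hy', Algebra.algebraMap_eq_smul_one, map_smul, smul_eq_mul] at h1
    have h2 := (map_eq_zero_iff _ hι).mp h1
    rcases mul_eq_zero.mp h2 with h3 | h3
    · exact hc0 h3
    · exact hψ h3

end H5AssOmega
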