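import Groth.Prelude.Def_Disc
import Mathlib.RingTheory.Kaehler.Basic
import Mathlib.RingTheory.Trace.Defs
import Mathlib.RingTheory.Trace.Basic
import Mathlib.LinearAlgebra.FreeModule.Finite.Basic

set_option autoImplicit false
universe u v
open TensorProduct

namespace H5Disc

section
variable {A : Type u} {B : Type v} [CommRing A] [CommRing B] [Algebra A B]

/-- `b ⊗ c ↦ l b • c`. -/
noncomputable def ev (l : B →ₗ[A] A) : B ⊗[A] B →ₗ[A] B :=
  TensorProduct.lift ((LinearMap.lsmul A B).comp l)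

@[simp] theorem ev_tmul (l : B →ₗ[A] A) (b c : B) : ev l (b ⊗ₜ[A] c) = l b • c := by
  simp [ev]

theorem ev_add (l l' : B →ₗ[A] A) (ξ : B ⊗[A] B) : ev (l + l') ξ = ev l ξ + ev l' ξ := by
  induction ξ using TensorProduct.induction_on with
  | zero => simp
  | add x y hx hy => rw [map_add, map_add, map_add, hx, hy]; abel
  | tmul b c => simp [add_smul]

theorem ev_one_tmul_mul (l : B →ₗ[A] A) (s : B) (ξ : B ⊗[A] B) :
    ev l (((1 : B) ⊗ₜ[A] s) * ξ) = s * ev l ξ := by
  induction ξ using TensorProduct.induction_on with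
  | zero => simp
  | add x y hx hy => rw [mul_add, map_add, map_add, hx, hy, mul_add]
  | tmul b c => simp [Algebra.TensorProduct.tmul_mul_tmul]

theorem ev_tmul_one_mul (l : B →ₗ[A] A) (s : B) (ξ : B ⊗[A] B) :
    ev l ((s ⊗ₜ[A] (1 : B)) * ξ) = ev (l ∘ₗ LinearMap.mulLeft A s) ξ := by
  induction ξ using TensorProduct.induction_on with
  | zero => simp
  | add x y hx hy => rw [mul_add, map_add, map_add, hx, hy]
  | tmul b c => simp [Algebra.TensorProduct.tmul_mul_tmul]

variable [Module.Free A B] [Module.Finite A B]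

theorem expand (ξ : B ⊗[A] B) :
    ξ = ∑ j, (Module.Free.chooseBasis A B j) ⊗ₜ[A] ev ((Module.Free.chooseBasis A B).coord j) ξ := by
  induction ξ using TensorProduct.induction_on with
  | zero => simp
  | add x y hx hy =>
    conv_lhs => rw [hx, hy]
    rw [← Finset.sum_add_distrib]
    refine Finset.sum_congr rfl fun j _ => ?_
    rw [map_add, TensorProduct.tmul_add]
  | tmul b c =>
    simp only [ev_tmul, Module.Basis.coord_apply]
    conv_lhs => rw [← (Module.Free.chooseBasis A B).sum_repr b, TensorProduct.sum_tmul]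
    refine Finset.sum_congr rfl fun j _ => ?_
    rw [TensorProduct.smul_tmul]

theorem eq_zero_of_ev_eq_zero (ξ : B ⊗[A] B) (h : ∀ l : B →ₗ[A] A, ev l ξ = 0) : ξ = 0 := by
  rw [expand ξ]
  simp [h]

theorem mem_annihilator_iff (ξ : B ⊗[A] B) :
    ξ ∈ Submodule.annihilator (RingHom.ker (Algebra.TensorProduct.lmul' (S := B) A)) ↔
      ∀ s : B, ((1 : B) ⊗ₜ[A] s) * ξ = (s ⊗ₜ[A] (1 : B)) * ξ := by
  have hker : RingHom.ker (Algebra.TensorProduct.lmul' (S := B) A) =
      Ideal.span (Set.range fun s : B => (1 : B) ⊗ₜ[A] s - s ⊗ₜ[A] (1 : B)) :=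
    (KaehlerDifferential.span_range_eq_ideal A B).symm
  rw [hker, Ideal.span, Submodule.mem_annihilator_span]
  constructor
  · intro h s
    have := h ⟨_, ⟨s, rfl⟩⟩
    simp only [smul_eq_mul] at this
    rw [← sub_eq_zero, ← sub_mul, mul_comm]
    exact this
  · rintro h ⟨_, ⟨s, rfl⟩⟩
    simp only [smul_eq_mul]
    rw [mul_comm, sub_mul, sub_eq_zero]
    exact h s

theorem trace_expand (ξ : B ⊗[A] B)
    (hξ : ∀ s : B, ((1 : B) ⊗ₜ[A] s) * ξ = (s ⊗ₜ[A] (1 : B)) * ξ) :
    ev (Algebra.trace A B) ξ = Algebra.TensorProduct.lmul' (S := B) A ξ := by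
  classical
  set β := Module.Free.chooseBasis A B with hβ
  have h1 : ∀ η : B ⊗[A] B, ev (Algebra.trace A B) η =
      ∑ j, ev (β.coord j) ((β j ⊗ₜ[A] (1 : B)) * η) := by
    intro η
    induction η using TensorProduct.induction_on with
    | zero => simp
    | add x y hx hy =>
      rw [map_add, hx, hy, ← Finset.sum_add_distrib]
      refine Finset.sum_congr rfl fun j _ => ?_
      rw [mul_add, map_add]
    | tmul b c =>
      simp only [ev_tmul, Algebra.TensorProduct.tmul_mul_tmul, one_mul, Module.Basis.coord_apply]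
      rw [← Finset.sum_smul]
      congr 1
      rw [Algebra.trace_eq_matrix_trace β, Matrix.trace]
      refine Finset.sum_congr rfl fun j _ => ?_
      rw [Matrix.diag_apply, Algebra.leftMulMatrix_eq_repr_mul, mul_comm]
  rw [h1]
  conv_rhs => rw [expand ξ, map_sum]
  refine Finset.sum_congr rfl fun j _ => ?_
  rw [← hξ, ev_one_tmul_mul, Algebra.TensorProduct.lmul'_apply_tmul]

theorem omega_eq_sum (l : Disc.Omega A B) :
    l = ∑ j, algebraMap A B (l.toLinearMap (Module.Free.chooseBasis A B j)) •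
      (⟨(Module.Free.chooseBasis A B).coord j⟩ : Disc.Omega A B) := by
  apply Disc.Omega.ext
  ext x
  have hsum : ∀ (s : Finset (Module.Free.ChooseBasisIndex A B)) (f : _ → Disc.Omega A B),
      (∑ j ∈ s, f j).toLinearMap = ∑ j ∈ s, (f j).toLinearMap := by
    intro s f
    classical
    induction s using Finset.induction_on with
    | empty => simp
    | insert a s ha ih => rw [Finset.sum_insert ha, Finset.sum_insert ha, Disc.Omega.add_toLinearMap, ih]
  rw [hsum, LinearMap.sum_apply]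
  simp only [Disc.Omega.smul_toLinearMap_apply, Module.Basis.coord_apply]
  conv_lhs => rw [← (Module.Free.chooseBasis A B).sum_repr x, map_sum]
  refine Finset.sum_congr rfl fun j _ => ?_
  rw [← Algebra.smul_def, map_smul, map_smul, Finsupp.smul_apply, smul_eq_mul, smul_eq_mul,
    mul_comm]

theorem exists_xi (Φ : Disc.Omega A B →ₗ[B] B) :
    ∃ ξ : B ⊗[A] B, (∀ s : B, ((1 : B) ⊗ₜ[A] s) * ξ = (s ⊗ₜ[A] (1 : B)) * ξ) ∧
      ∀ l : Disc.Omega A B, Φ l = ev l.toLinearMap ξ := by
  set β := Module.Free.chooseBasis A B with hβ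
  let ξ : B ⊗[A] B := ∑ j, β j ⊗ₜ[A] Φ ⟨β.coord j⟩
  have hev : ∀ l : Disc.Omega A B, Φ l = ev l.toLinearMap ξ := by
    intro l
    conv_lhs => rw [omega_eq_sum l, map_sum]
    simp only [ξ, map_sum, ev_tmul, map_smul, smul_eq_mul, Algebra.smul_def]
    rfl
  refine ⟨ξ, fun s => ?_, hev⟩
  rw [← sub_eq_zero]
  apply eq_zero_of_ev_eq_zero
  intro l
  rw [map_sub, ev_one_tmul_mul, ev_tmul_one_mul, sub_eq_zero]
  have h1 := hev ⟨l⟩
  have h2 := hev (s • (⟨l⟩ : Disc.Omega A B))
  rw [map_smul, smul_eq_mul] at h2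
  simp only at h1
  rw [← h1, h2]
  rfl

theorem noetherPairing_bijective (Φ : Disc.Omega A B →ₗ[B] B) :
    ∃! ξ : B ⊗[A] B,
      ξ ∈ Submodule.annihilator (RingHom.ker (Algebra.TensorProduct.lmul' (S := B) A)) ∧
        ∀ l : Disc.Omega A B,
          Φ l = TensorProduct.lift ((LinearMap.lsmul A B).comp l.toLinearMap) ξ := by
  obtain ⟨ξ, h1, h2⟩ := exists_xi Φ
  refine ⟨ξ, ⟨(mem_annihilator_iff ξ).mpr h1, h2⟩, ?_⟩
  rintro ξ' ⟨_, h2'⟩
  rw [← sub_eq_zero]
  apply eq_zero_of_ev_eq_zero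
  intro l
  rw [map_sub, sub_eq_zero]
  have e1 := h2 ⟨l⟩
  have e2 := h2' ⟨l⟩
  simp only at e1 e2
  exact e2.symm.trans e1

theorem noetherDifferent_eq_range_eval_trace :
    (Disc.noetherDifferent A B : Set B) =
      Set.range (fun φ : Disc.Omega A B →ₗ[B] B => φ (Disc.Omega.trace A B)) := by
  ext d
  constructor
  · intro hd
    have hsurj : Function.Surjective (Algebra.TensorProduct.lmul' (S := B) A) := fun x =>
      ⟨x ⊗ₜ 1, by simp⟩
    rw [SetLike.mem_coe, Disc.noetherDifferent, Ideal.mem_map_iff_of_surjective _ hsurj] at hd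
    obtain ⟨ξ, hξ, rfl⟩ := hd
    have hξ' := (mem_annihilator_iff ξ).mp hξ
    let φ : Disc.Omega A B →ₗ[B] B :=
      { toFun := fun l => ev l.toLinearMap ξ
        map_add' := fun l l' => by rw [Disc.Omega.add_toLinearMap, ev_add]
        map_smul' := fun s l => by
          rw [RingHom.id_apply, smul_eq_mul, ← ev_one_tmul_mul, hξ', ev_tmul_one_mul]
          rfl }
    refine ⟨φ, ?_⟩
    exact trace_expand ξ hξ'
  · rintro ⟨φ, rfl⟩
    obtain ⟨ξ, h1, h2⟩ := exists_xi φ
    simp only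
    rw [h2, SetLike.mem_coe]
    have : ev (Disc.Omega.trace A B).toLinearMap ξ = Algebra.TensorProduct.lmul' (S := B) A ξ :=
      trace_expand ξ h1
    rw [this]
    exact Ideal.mem_map_of_mem _ ((mem_annihilator_iff ξ).mpr h1)

end

end H5Disc
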