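import Groth.Prelude.Def_Disc
import Groth.Agent.Lib.Helper5.Disc.NoetherPair
import Mathlib.RingTheory.PicardGroup
import Mathlib.LinearAlgebra.Contraction

set_option autoImplicit false
universe u v
open TensorProduct

namespace H5Disc

section
variable {R : Type u} {M : Type v} [CommRing R] [AddCommGroup M] [Module R M]

/-- the rank-one exchange identity for invertible modules -/
theorem exchange [Module.Invertible R M] (Φ Ψ : Module.Dual R M) (x y z : M) :
    Ψ x • Φ z • y = Φ y • Ψ z • x := by
  have h1 : Ψ x • (Φ ⊗ₜ[R] y) = Φ y • (Ψ ⊗ₜ[R] x) := by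
    apply (Module.Invertible.bijective (R := R) (M := M)).1
    simp only [map_smul, contractLeft_apply, smul_eq_mul, mul_comm]
  have h2 := congrArg (fun t => dualTensorHom R M M t z) h1
  simpa [dualTensorHom_apply] using h2

theorem exists_contract_eq_one [Module.Invertible R M] :
    ∃ v : Module.Dual R M ⊗[R] M, contractLeft R M v = 1 :=
  (Module.Invertible.bijective (R := R) (M := M)).2 1

/-- `Ψ τ • y ∈ R τ` for an invertible module. -/
theorem smul_mem_span_of_invertible [Module.Invertible R M] (Ψ : Module.Dual R M) (τ y : M) :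
    Ψ τ • y ∈ Submodule.span R {τ} := by
  obtain ⟨v, hv⟩ := exists_contract_eq_one (R := R) (M := M)
  have key : ∀ t : Module.Dual R M ⊗[R] M, contractLeft R M t • (Ψ τ • y) ∈ Submodule.span R {τ} := by
    intro t
    induction t using TensorProduct.induction_on with
    | zero => simp
    | add a b ha hb => rw [map_add, add_smul]; exact Submodule.add_mem _ ha hb
    | tmul Φ z =>
      rw [contractLeft_apply, smul_comm, exchange Φ Ψ τ y z, smul_smul]
      exact Submodule.smul_mem _ _ (Submodule.mem_span_singleton_self τ)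
  have := key v
  rwa [hv, one_smul] at this

/-- if `b M ⊆ R τ` then `b = Φ τ` for some `Φ`. -/
theorem exists_dual_apply_eq [Module.Invertible R M] (τ : M) (b : R)
    (hb : ∀ w : M, ∃ c : R, b • w = c • τ) : ∃ Φ : Module.Dual R M, Φ τ = b := by
  obtain ⟨v, hv⟩ := exists_contract_eq_one (R := R) (M := M)
  let evτ : Module.Dual R M →ₗ[R] R := LinearMap.applyₗ τ
  have key : ∀ t : Module.Dual R M ⊗[R] M, contractLeft R M t * b ∈ LinearMap.range evτ := by
    intro t
    induction t using TensorProduct.induction_on with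
    | zero => simp
    | add a b ha hb => rw [map_add, add_mul]; exact Submodule.add_mem _ ha hb
    | tmul Φ z =>
      obtain ⟨c, hc⟩ := hb z
      refine ⟨c • Φ, ?_⟩
      rw [contractLeft_apply]
      simp only [evτ, LinearMap.applyₗ_apply_apply, LinearMap.smul_apply, smul_eq_mul]
      have : Φ (b • z) = Φ (c • τ) := by rw [hc]
      rw [map_smul, map_smul, smul_eq_mul, smul_eq_mul] at this
      rw [← this, mul_comm]
  have := key v
  rw [hv, one_mul] at this
  obtain ⟨Φ, hΦ⟩ := this
  exact ⟨Φ, hΦ⟩

end

section
variable {A : Type u} {B : Type v} [CommRing A] [CommRing B] [Algebra A B]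
  [Module.Free A B] [Module.Finite A B]

theorem mem_differentSet_iff (b : B) :
    b ∈ Disc.differentSet A B ↔
      ∀ w : Disc.Omega A B, ∃ c : B, b • w = c • Disc.Omega.trace A B := by
  constructor
  · intro hb w
    obtain ⟨c, hc⟩ := hb w.toLinearMap
    refine ⟨c, ?_⟩
    apply Disc.Omega.ext
    ext x
    rw [Disc.Omega.smul_toLinearMap_apply, Disc.Omega.smul_toLinearMap_apply]
    exact hc x
  · intro hb φ
    obtain ⟨c, hc⟩ := hb ⟨φ⟩
    refine ⟨c, fun x => ?_⟩
    have := congrArg (fun ψ : Disc.Omega A B => ψ.toLinearMap x) hc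
    simp only [Disc.Omega.smul_toLinearMap_apply] at this
    exact this

theorem differentSet_eq_noetherDifferent_of_invertible [Module.Invertible B (Disc.Omega A B)] :
    Disc.differentSet A B = (Disc.noetherDifferent A B : Set B) := by
  rw [noetherDifferent_eq_range_eval_trace]
  ext b
  rw [mem_differentSet_iff]
  constructor
  · intro hb
    obtain ⟨Φ, hΦ⟩ := exists_dual_apply_eq (Disc.Omega.trace A B) b hb
    exact ⟨Φ, hΦ⟩
  · rintro ⟨Φ, rfl⟩ w
    have := smul_mem_span_of_invertible Φ (Disc.Omega.trace A B) w
    rw [Submodule.mem_span_singleton] at this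
    obtain ⟨c, hc⟩ := this
    exact ⟨c, hc.symm⟩

end

end H5Disc
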