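import Groth.Prelude.Def_Disc
import Mathlib.RingTheory.Unramified.Locus
import Mathlib.LinearAlgebra.Matrix.Charpoly.LinearMap
import Mathlib.RingTheory.Support
import Mathlib.RingTheory.Kaehler.Basic

set_option autoImplicit false
universe u v
open TensorProduct Polynomial

namespace H5Disc

section
variable (A : Type u) (B : Type v) [CommRing A] [CommRing B] [Algebra A B]

local notation "μ" => (Algebra.TensorProduct.lmul' (S := B) A)
local notation "II" => KaehlerDifferential.ideal A B

theorem lmul'_surjective : Function.Surjective μ := fun x => ⟨x ⊗ₜ 1, by simp⟩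

/-- `b • ω = (b ⊗ 1) • ω` on the Kähler differentials. -/
theorem smul_eq_tmul_one_smul (b : B) (ω : Ω[B⁄A]) : b • ω = (b ⊗ₜ[A] (1 : B)) • ω := by
  have : (b ⊗ₜ[A] (1 : B)) = b • (1 : B ⊗[A] B) := by
    rw [Algebra.TensorProduct.one_def, TensorProduct.smul_tmul', smul_eq_mul, mul_one]
  rw [this, smul_assoc, one_smul]

theorem noetherDifferent_le_annihilator :
    Disc.noetherDifferent A B ≤ Module.annihilator B Ω[B⁄A] := by
  intro d hd
  rw [Disc.noetherDifferent, Ideal.mem_map_iff_of_surjective _ (lmul'_surjective A B)] at hd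
  obtain ⟨ξ, hξ, rfl⟩ := hd
  rw [Module.mem_annihilator]
  intro ω
  obtain ⟨x, rfl⟩ := Ideal.toCotangent_surjective _ ω
  rw [smul_eq_tmul_one_smul]
  change ((μ ξ) ⊗ₜ[A] (1 : B)) • (II).toCotangent x = 0
  rw [← map_smul, Ideal.toCotangent_eq_zero]
  have h1 : ξ * (x : B ⊗[A] B) = 0 := by
    have := Submodule.mem_annihilator.mp hξ (x : B ⊗[A] B) x.2
    simpa using this
  have h2 : (μ ξ) ⊗ₜ[A] (1 : B) - ξ ∈ II := by
    rw [RingHom.mem_ker, map_sub]
    simp
  have h3 : (((μ ξ) ⊗ₜ[A] (1 : B)) • x : II).1 = ((μ ξ) ⊗ₜ[A] (1 : B) - ξ) * (x : B ⊗[A] B) := by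
    rw [sub_mul, h1, sub_zero]
    rfl
  rw [h3, pow_two]
  exact Ideal.mul_mem_mul h2 x.2

theorem exists_pow_mem_noetherDifferent [Algebra.FiniteType A B] (b : B)
    (hb : b ∈ Module.annihilator B Ω[B⁄A]) : ∃ n : ℕ, b ^ n ∈ Disc.noetherDifferent A B := by
  haveI : Module.Finite (B ⊗[A] B) II :=
    Module.Finite.iff_fg.mpr (KaehlerDifferential.ideal_fg A B)
  let s : B ⊗[A] B := b ⊗ₜ[A] (1 : B)
  let f : Module.End (B ⊗[A] B) II := Algebra.lsmul (B ⊗[A] B) (B ⊗[A] B) II s
  have hf : LinearMap.range f ≤ (II) • (⊤ : Submodule (B ⊗[A] B) II) := by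
    rintro _ ⟨x, rfl⟩
    have h00 : b • (II).toCotangent x = 0 := Module.mem_annihilator.mp hb _
    have h0 : (b ⊗ₜ[A] (1 : B)) • (II).toCotangent x = 0 :=
      (smul_eq_tmul_one_smul A B b ((II).toCotangent x)).symm.trans h00
    rw [← map_smul] at h0
    exact (Submodule.Quotient.mk_eq_zero _).mp h0
  obtain ⟨p, hpm, -, hpc, hp0⟩ :=
    LinearMap.exists_monic_and_natDegree_eq_and_coeff_mem_pow_and_aeval_eq_zero _ f (II) hf
  refine ⟨p.natDegree, ?_⟩
  let ξ : B ⊗[A] B := aeval s p
  have hξann : ξ ∈ Submodule.annihilator (RingHom.ker μ) := by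
    rw [Submodule.mem_annihilator]
    intro x hx
    have h1 : aeval f p = Algebra.lsmul (B ⊗[A] B) (B ⊗[A] B) II ξ := by
      show aeval (Algebra.lsmul (B ⊗[A] B) (B ⊗[A] B) II s) p = _
      rw [Polynomial.aeval_algHom_apply]
    have h2 := LinearMap.congr_fun hp0 ⟨x, hx⟩
    rw [h1] at h2
    have h3 := congrArg Subtype.val h2
    simpa using h3
  have hμξ : μ ξ = b ^ p.natDegree := by
    have h1 : μ ξ = (p.map (μ : B ⊗[A] B →+* B)).eval b := by
      simp only [ξ, s]
      rw [Polynomial.eval_map, Polynomial.aeval_def, Algebra.algebraMap_self]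
      rw [show (μ) (eval₂ (RingHom.id (B ⊗[A] B)) (b ⊗ₜ[A] (1 : B)) p) =
        (μ : B ⊗[A] B →+* B) (eval₂ (RingHom.id (B ⊗[A] B)) (b ⊗ₜ[A] (1 : B)) p) from rfl,
        Polynomial.hom_eval₂]
      simp
    have h2 : p.map (μ : B ⊗[A] B →+* B) = X ^ p.natDegree := by
      ext k
      rw [Polynomial.coeff_map, Polynomial.coeff_X_pow]
      by_cases hk : k = p.natDegree
      · rw [if_pos hk, hk, hpm.coeff_natDegree]
        simp
      · rw [if_neg hk]
        by_cases hlt : k < p.natDegree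
        · have h3 := hpc k
          have h4 : II ^ (p.natDegree - k) ≤ II := by
            have : p.natDegree - k ≠ 0 := by omega
            exact Ideal.pow_le_self this
          exact (RingHom.mem_ker).mp (h4 h3)
        · have : p.natDegree < k := by omega
          rw [Polynomial.coeff_eq_zero_of_natDegree_lt this]
          simp
    rw [h1, h2]
    simp
  rw [← hμξ]
  exact Ideal.mem_map_of_mem _ hξann

theorem zeroLocus_noetherDifferent [Algebra.FiniteType A B] :
    {q : PrimeSpectrum B | Disc.noetherDifferent A B ≤ q.asIdeal} =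
      (Algebra.unramifiedLocus A B)ᶜ := by
  rw [Algebra.unramifiedLocus_eq_compl_support, compl_compl]
  ext q
  rw [Set.mem_ofPred_eq, Module.mem_support_iff_of_finite]
  constructor
  · intro h b hb
    obtain ⟨n, hn⟩ := exists_pow_mem_noetherDifferent A B b hb
    exact q.2.mem_of_pow_mem n (h hn)
  · intro h
    exact (noetherDifferent_le_annihilator A B).trans h

end

end H5Disc
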