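import Groth.Prelude.Def_Disc
import Groth.Agent.Lib.Helper5.Disc.NoetherPair
import Groth.Agent.Lib.Helper5.Disc.NoetherLocus
import Groth.Agent.Lib.Helper5.Disc.InvDiff

set_option autoImplicit false
universe u v
open TensorProduct

namespace H5Disc

section
variable {A : Type u} {B : Type v} [CommRing A] [CommRing B] [Algebra A B]

/-- `a ⊗ b ↦ φ b • a`. -/
noncomputable def evR (φ : B →ₗ[A] A) : B ⊗[A] B →ₗ[A] B :=
  (TensorProduct.rid A B).toLinearMap ∘ₗ LinearMap.lTensor B φ

@[simp] theorem evR_tmul (φ : B →ₗ[A] A) (a b : B) : evR φ (a ⊗ₜ[A] b) = φ b • a := by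
  simp [evR]

variable [Module.Free A B] [Module.Finite A B]

theorem apply_ev_trace (φ : B →ₗ[A] A) (x : B) (ξ : B ⊗[A] B) :
    φ (ev (Algebra.trace A B ∘ₗ LinearMap.mulLeft A x) ξ) =
      Algebra.trace A B (evR φ ξ * x) := by
  induction ξ using TensorProduct.induction_on with
  | zero => simp
  | add a b ha hb => rw [map_add, map_add, ha, hb, map_add, add_mul, map_add]
  | tmul a b =>
    simp only [ev_tmul, evR_tmul, LinearMap.comp_apply, LinearMap.mulLeft_apply, map_smul,
      smul_eq_mul, smul_mul_assoc]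
    rw [mul_comm a x, mul_comm]

/-- the Noether different is contained in the different -/
theorem noetherDifferent_subset_differentSet :
    (Disc.noetherDifferent A B : Set B) ⊆ Disc.differentSet A B := by
  rw [noetherDifferent_eq_range_eval_trace]
  rintro _ ⟨Φ, rfl⟩
  obtain ⟨ξ, hξ, hΦ⟩ := exists_xi Φ
  intro φ
  refine ⟨evR φ ξ, fun x => ?_⟩
  have h1 : Φ (Disc.Omega.trace A B) * x =
      ev (Algebra.trace A B ∘ₗ LinearMap.mulLeft A x) ξ := by
    rw [hΦ, mul_comm, ← ev_one_tmul_mul, hξ, ev_tmul_one_mul]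
    rfl
  rw [h1, apply_ev_trace]

theorem omega_faithful (x : B) (h : ∀ w : Disc.Omega A B, x • w = 0) : x = 0 := by
  let e := Module.Free.chooseBasis A B
  apply e.repr.injective
  rw [map_zero]
  ext i
  have := congrArg (fun w : Disc.Omega A B => w.toLinearMap 1) (h ⟨e.coord i⟩)
  simpa using this

theorem sq_mem_noetherDifferent (b : B) (hb : b ∈ Disc.differentSet A B) :
    b ^ 2 ∈ Disc.noetherDifferent A B := by
  rw [mem_differentSet_iff (A := A)] at hb
  choose c hc using hb
  have key : ∀ c₁ c₂ : B, c₁ • Disc.Omega.trace A B = c₂ • Disc.Omega.trace A B →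
      b * c₁ = b * c₂ := by
    intro c₁ c₂ h
    have h0 : (c₁ - c₂) • Disc.Omega.trace A B = 0 := by rw [sub_smul, h, sub_self]
    have : (c₁ - c₂) * b = 0 := by
      apply omega_faithful (A := A)
      intro w
      rw [mul_smul, hc, smul_comm, h0, smul_zero]
    rw [← sub_eq_zero, ← mul_sub, mul_comm]
    exact this
  let Φ : Disc.Omega A B →ₗ[B] B :=
    { toFun := fun w => b * c w
      map_add' := by
        intro w w'
        rw [← mul_add]
        apply key
        rw [← hc, smul_add, hc, hc, add_smul]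
      map_smul' := by
        intro s w
        rw [RingHom.id_apply, smul_eq_mul, mul_left_comm]
        change b * c (s • w) = b * (s * c w)
        apply key
        rw [← hc, smul_comm, hc, mul_smul] }
  have hΦ : Φ (Disc.Omega.trace A B) = b ^ 2 := by
    change b * c (Disc.Omega.trace A B) = b ^ 2
    rw [pow_two]
    apply key
    rw [← hc]
  have : b ^ 2 ∈ (Disc.noetherDifferent A B : Set B) := by
    rw [noetherDifferent_eq_range_eval_trace]
    exact ⟨Φ, hΦ⟩
  exact this

theorem differentSet_subset_iff (q : Ideal B) [q.IsPrime] :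
    Disc.differentSet A B ⊆ q ↔ Disc.noetherDifferent A B ≤ q := by
  constructor
  · intro h d hd
    exact h (noetherDifferent_subset_differentSet hd)
  · intro h b hb
    exact Ideal.IsPrime.mem_of_pow_mem inferInstance 2 (h (sq_mem_noetherDifferent b hb))

theorem differentSet_subset_iff_not_unramifiedAt (q : Ideal B) [q.IsPrime] :
    Disc.differentSet A B ⊆ q ↔ ¬Algebra.IsUnramifiedAt A q := by
  rw [differentSet_subset_iff]
  have h := zeroLocus_noetherDifferent A B
  have h2 : (⟨q, inferInstance⟩ : PrimeSpectrum B) ∈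
      {q : PrimeSpectrum B | Disc.noetherDifferent A B ≤ q.asIdeal} ↔
      (⟨q, inferInstance⟩ : PrimeSpectrum B) ∈ (Algebra.unramifiedLocus A B)ᶜ := by rw [h]
  exact h2

end

end H5Disc
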