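import Mathlib.RingTheory.Kaehler.Polynomial
import Mathlib.RingTheory.Kaehler.Basic
import Groth.Prelude.Def_Fitting
import Groth.Agent.H4.Fitting8

set_option autoImplicit false
universe u
open MvPolynomial TensorProduct

namespace H5FittJac

open Groth.Agent.H4.Fitting

variable (A : Type u) [CommRing A] (n : ℕ) (f : Fin n → MvPolynomial (Fin n) A)

local notation "P" => MvPolynomial (Fin n) A
local notation "I" => Ideal.span (Set.range f)
local notation "B" => MvPolynomial (Fin n) A ⧸ Ideal.span (Set.range f)

/-- the generators `d x̄_j` -/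
noncomputable def xg (j : Fin n) : Ω[B⁄A] :=
  KaehlerDifferential.D A B (Ideal.Quotient.mk I (X j))

/-- the Jacobian rows -/
noncomputable def srow (i : Fin n) : Fin n → B := fun j => Ideal.Quotient.mk I (pderiv j (f i))

theorem chain_rule (p : P) :
    KaehlerDifferential.D A B (Ideal.Quotient.mk I p) =
      ∑ j, Ideal.Quotient.mk I (pderiv j p) • xg A n f j := by
  have h1 : KaehlerDifferential.D A P p =
      ∑ j, pderiv j p • KaehlerDifferential.D A P (X j) := by
    conv_lhs => rw [← (KaehlerDifferential.mvPolynomialBasis A (Fin n)).sum_repr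
      (KaehlerDifferential.D A P p)]
    refine Finset.sum_congr rfl fun j _ => ?_
    rw [KaehlerDifferential.mvPolynomialBasis_repr_apply,
      KaehlerDifferential.mvPolynomialBasis_apply]
  have h2 := congrArg (KaehlerDifferential.map A A P B) h1
  rw [KaehlerDifferential.map_D, map_sum] at h2
  rw [show Ideal.Quotient.mk I p = algebraMap P B p from rfl, h2]
  refine Finset.sum_congr rfl fun j _ => ?_
  rw [map_smul, KaehlerDifferential.map_D, ← algebraMap_smul B (pderiv j p)]
  rfl

theorem span_xg : Submodule.span B (Set.range (xg A n f)) = ⊤ := by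
  rw [eq_top_iff, ← KaehlerDifferential.span_range_derivation A B, Submodule.span_le]
  rintro _ ⟨b, rfl⟩
  obtain ⟨p, rfl⟩ := Ideal.Quotient.mk_surjective b
  rw [chain_rule]
  exact Submodule.sum_mem _ fun j _ => Submodule.smul_mem _ _ (Submodule.subset_span ⟨j, rfl⟩)

theorem srow_mem_rel (i : Fin n) : srow A n f i ∈ rel (R := B) (xg A n f) := by
  rw [mem_rel]
  change ∑ j, Ideal.Quotient.mk I (pderiv j (f i)) • xg A n f j = 0
  rw [← chain_rule]
  have : Ideal.Quotient.mk I (f i) = 0 :=
    Ideal.Quotient.eq_zero_iff_mem.mpr (Ideal.subset_span ⟨i, rfl⟩)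
  rw [this, map_zero]

theorem grad_mem_span (g : P) (hg : g ∈ I) :
    (fun j => Ideal.Quotient.mk I (pderiv j g)) ∈
      Submodule.span B (Set.range (srow A n f)) := by
  refine Submodule.span_induction ?_ ?_ ?_ ?_ hg
  · rintro _ ⟨i, rfl⟩
    exact Submodule.subset_span ⟨i, rfl⟩
  · convert Submodule.zero_mem _ using 1
    funext j
    simp
  · intro p q _ _ hp hq
    convert Submodule.add_mem _ hp hq using 1
    funext j
    simp
  · intro p q hq hq'
    convert Submodule.smul_mem _ (Ideal.Quotient.mk I p) hq' using 1
    funext j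
    have : Ideal.Quotient.mk I q = 0 := Ideal.Quotient.eq_zero_iff_mem.mpr hq
    simp [Derivation.leibniz, this]

end H5FittJac

namespace H5FittJac

open Groth.Agent.H4.Fitting

variable (A : Type u) [CommRing A] (n : ℕ) (f : Fin n → MvPolynomial (Fin n) A)

local notation "P" => MvPolynomial (Fin n) A
local notation "I" => Ideal.span (Set.range f)
local notation "B" => MvPolynomial (Fin n) A ⧸ Ideal.span (Set.range f)

/-- the `j`-th coordinate functional on `B ⊗[P] Ω[P⁄A]` -/
noncomputable def πj (j : Fin n) : B ⊗[P] Ω[P⁄A] →ₗ[B] B :=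
  LinearMap.liftBaseChange B
    ((Algebra.linearMap P B) ∘ₗ (KaehlerDifferential.mvPolynomialBasis A (Fin n)).coord j)

theorem πj_tmul_D (j : Fin n) (b : B) (p : P) :
    πj A n f j (b ⊗ₜ[P] KaehlerDifferential.D A P p) = b * Ideal.Quotient.mk I (pderiv j p) := by
  rw [πj, LinearMap.liftBaseChange_tmul, LinearMap.comp_apply, Module.Basis.coord_apply,
    KaehlerDifferential.mvPolynomialBasis_repr_apply, smul_eq_mul]
  rfl

theorem rel_le_span : rel (R := B) (xg A n f) ≤ Submodule.span B (Set.range (srow A n f)) := by
  classical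
  intro z hz
  rw [mem_rel] at hz
  set ζ : B ⊗[P] Ω[P⁄A] := ∑ j, z j ⊗ₜ[P] KaehlerDifferential.D A P (X j) with hζ
  have h0 : KaehlerDifferential.mapBaseChange A P B ζ = 0 := by
    rw [hζ, map_sum, ← hz]
    refine Finset.sum_congr rfl fun j _ => ?_
    rw [KaehlerDifferential.mapBaseChange_tmul, KaehlerDifferential.map_D]
    rfl
  have hsurj : Function.Surjective (algebraMap P B) := Ideal.Quotient.mk_surjective
  obtain ⟨c, hc⟩ := (KaehlerDifferential.exact_kerCotangentToTensor_mapBaseChange A P B hsurj ζ).mp h0
  obtain ⟨g, rfl⟩ := Ideal.toCotangent_surjective _ c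
  rw [KaehlerDifferential.kerCotangentToTensor_toCotangent] at hc
  have hgI : (g : P) ∈ I := by
    have := g.2
    rw [RingHom.mem_ker] at this
    exact Ideal.Quotient.eq_zero_iff_mem.mp this
  have hz' : z = fun j => Ideal.Quotient.mk I (pderiv j (g : P)) := by
    funext j
    have h1 := congrArg (πj A n f j) hc
    rw [πj_tmul_D, one_mul, hζ, map_sum] at h1
    rw [h1]
    simp only [πj_tmul_D]
    rw [Finset.sum_eq_single j]
    · rw [pderiv_X_self, map_one, mul_one]
    · intro k _ hk
      rw [pderiv_X_of_ne hk, map_zero, mul_zero]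
    · intro h; exact absurd (Finset.mem_univ _) h
  rw [hz']
  exact grad_mem_span A n f g hgI

theorem span_eq_rel : Submodule.span B (Set.range (srow A n f)) = rel (R := B) (xg A n f) := by
  apply le_antisymm
  · rw [Submodule.span_le]
    rintro _ ⟨i, rfl⟩
    exact srow_mem_rel A n f i
  · exact rel_le_span A n f

end H5FittJac

namespace H5FittJac

open Groth.Agent.H4.Fitting

/-- the determinant of a "generalized submatrix" lies in the span of the determinant -/
theorem det_submatrix_mem {R : Type*} [CommRing R] {n : ℕ} (N : Matrix (Fin n) (Fin n) R)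
    (e c : Fin n → Fin n) : (N.submatrix e c).det ∈ Ideal.span {N.det} := by
  classical
  by_cases he : Function.Injective e
  · by_cases hc : Function.Injective c
    · have heb : Function.Bijective e := Finite.injective_iff_bijective.mp he
      have hcb : Function.Bijective c := Finite.injective_iff_bijective.mp hc
      let σ : Equiv.Perm (Fin n) := Equiv.ofBijective e heb
      let τ : Equiv.Perm (Fin n) := Equiv.ofBijective c hcb
      have : N.submatrix e c = (N.submatrix σ id).submatrix id τ := by
        ext a b; rfl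
      rw [this, Matrix.det_permute', Matrix.det_permute, ← mul_assoc]
      exact Ideal.mul_mem_left _ _ (Ideal.mem_span_singleton_self _)
    · obtain ⟨i, j, hij, hne⟩ := Function.not_injective_iff.mp hc
      have h0 : (N.submatrix e c).det = 0 :=
        Matrix.det_zero_of_column_eq hne (fun k => by simp [Matrix.submatrix_apply, hij])
      rw [h0]
      exact Ideal.zero_mem _
  · obtain ⟨i, j, hij, hne⟩ := Function.not_injective_iff.mp he
    have h0 : (N.submatrix e c).det = 0 :=
      Matrix.det_zero_of_row_eq hne (by funext k; simp [Matrix.submatrix_apply, hij])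
    rw [h0]
    exact Ideal.zero_mem _

variable (A : Type u) [CommRing A] (n : ℕ) (f : Fin n → MvPolynomial (Fin n) A)

local notation "P" => MvPolynomial (Fin n) A
local notation "I" => Ideal.span (Set.range f)
local notation "B" => MvPolynomial (Fin n) A ⧸ Ideal.span (Set.range f)

theorem fitt_eq :
    Fitt.ideal B (Ω[B⁄A]) 0 = Ideal.span {Ideal.Quotient.mk I
      (Matrix.det (Matrix.of fun i j : Fin n => MvPolynomial.pderiv j (f i)))} := by
  classical
  rw [ideal_eq_Mi 0 (xg A n f) (span_xg A n f), Nat.sub_zero,
    Mi_eq_of_span (xg A n f) (srow A n f) (span_eq_rel A n f) n]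
  -- N = transpose of the reduced Jacobian
  set N : Matrix (Fin n) (Fin n) B := Matrix.of fun a b => srow A n f b a with hN
  have hdet : N.det = Ideal.Quotient.mk I
      (Matrix.det (Matrix.of fun i j : Fin n => MvPolynomial.pderiv j (f i))) := by
    rw [RingHom.map_det, ← Matrix.det_transpose]
    congr 1
  rw [← hdet]
  apply le_antisymm
  · rw [Ideal.span_le]
    rintro d ⟨c, e, rfl⟩
    have : (Matrix.of fun a b => srow A n f (c b) (e a)) = N.submatrix e c := by
      ext a b; rfl
    rw [this]
    exact det_submatrix_mem N e c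
  · rw [Ideal.span_le, Set.singleton_subset_iff]
    refine Ideal.subset_span ⟨id, id, ?_⟩
    rfl

end H5FittJac
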