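import Mathlib.RingTheory.RingHom.Flat
import Mathlib.RingTheory.IsTensorProduct

set_option autoImplicit false
universe u
open TensorProduct

namespace H5FlatTensor

variable {A B' B : Type u} [CommRing A] [CommRing B'] [CommRing B]
  [Algebra A B'] [Algebra A B] [Algebra B' B] [IsScalarTower A B' B]

/-- `B' ⊗ C → B ⊗ C` is flat when `B' → B` is. -/
theorem flat_map_left (C : Type u) [CommRing C] [Algebra A C] (h : (algebraMap B' B).Flat) :
    (Algebra.TensorProduct.map (IsScalarTower.toAlgHom A B' B) (AlgHom.id A C)).toRingHom.Flat := by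
  letI : Algebra (B' ⊗[A] C) (B ⊗[A] C) :=
    (Algebra.TensorProduct.map (IsScalarTower.toAlgHom A B' B) (AlgHom.id A C)).toRingHom.toAlgebra
  haveI : IsScalarTower B' (B' ⊗[A] C) (B ⊗[A] C) := by
    refine IsScalarTower.of_algebraMap_eq' ?_
    ext b
    change algebraMap B' (B ⊗[A] C) b = (Algebra.TensorProduct.map (IsScalarTower.toAlgHom A B' B)
      (AlgHom.id A C)) (algebraMap B' (B' ⊗[A] C) b)
    simp [Algebra.TensorProduct.algebraMap_apply]
  have hP : Algebra.IsPushout B' B (B' ⊗[A] C) (B ⊗[A] C) :=
    Algebra.IsPushout.tensorProduct_tensorProduct A C B' B (by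
      ext c
      change (Algebra.TensorProduct.map (IsScalarTower.toAlgHom A B' B) (AlgHom.id A C))
        ((1 : B') ⊗ₜ[A] c) = (1 : B) ⊗ₜ[A] c
      simp)
  have := RingHom.Flat.isStableUnderBaseChange B' B (B' ⊗[A] C) (B ⊗[A] C) h
  exact this

/-- `B' ⊗ B' → B ⊗ B` is flat when `B' → B` is. -/
theorem flat_map_map (h : (algebraMap B' B).Flat) :
    (Algebra.TensorProduct.map (IsScalarTower.toAlgHom A B' B)
      (IsScalarTower.toAlgHom A B' B)).toRingHom.Flat := by
  have h1 := flat_map_left (A := A) (B' := B') (B := B) B' h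
  have h3 := flat_map_left (A := A) (B' := B') (B := B) B h
  have h2 : ((Algebra.TensorProduct.comm A B B').toAlgHom.toRingHom).Flat :=
    RingHom.Flat.of_bijective (Algebra.TensorProduct.comm A B B').bijective
  have h4 : ((Algebra.TensorProduct.comm A B B).toAlgHom.toRingHom).Flat :=
    RingHom.Flat.of_bijective (Algebra.TensorProduct.comm A B B).bijective
  have hcomp := ((h1.comp h2).comp h3).comp h4
  convert hcomp using 1
  have : Algebra.TensorProduct.map (IsScalarTower.toAlgHom A B' B) (IsScalarTower.toAlgHom A B' B) =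
      (Algebra.TensorProduct.comm A B B).toAlgHom.comp
        ((Algebra.TensorProduct.map (IsScalarTower.toAlgHom A B' B) (AlgHom.id A B)).comp
          ((Algebra.TensorProduct.comm A B B').toAlgHom.comp
            (Algebra.TensorProduct.map (IsScalarTower.toAlgHom A B' B) (AlgHom.id A B')))) := by
    ext x <;> simp
  rw [this]
  rfl

end H5FlatTensor
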