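import Groth.Prelude.Def_Disc
import Groth.Agent.Lib.Helper5.Disc.AnnBC
import Mathlib.RingTheory.Kaehler.Basic
import Mathlib.RingTheory.IsTensorProduct
import Mathlib.RingTheory.TensorProduct.IsBaseChangePi
import Mathlib.RingTheory.FiniteType

set_option autoImplicit false
universe u
open TensorProduct

namespace H5Disc

section
variable {A B A' B' : Type u} [CommRing A] [CommRing B] [CommRing A'] [CommRing B']
  [Algebra A B] [Algebra A A'] [Algebra A B'] [Algebra B B'] [Algebra A' B']
  [IsScalarTower A B B'] [IsScalarTower A A' B']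

variable (A B A' B') in
/-- the natural map `B ⊗[A] B → B' ⊗[A'] B'` -/
noncomputable def tensorMap : B ⊗[A] B →ₐ[A] B' ⊗[A'] B' :=
  Algebra.TensorProduct.lift
    (((Algebra.TensorProduct.includeLeft : B' →ₐ[A'] B' ⊗[A'] B').restrictScalars A).comp
      (IsScalarTower.toAlgHom A B B'))
    (((Algebra.TensorProduct.includeRight : B' →ₐ[A'] B' ⊗[A'] B').restrictScalars A).comp
      (IsScalarTower.toAlgHom A B B'))
    (fun _ _ => Commute.all _ _)

@[simp] theorem tensorMap_tmul (b c : B) :
    tensorMap A B A' B' (b ⊗ₜ[A] c) = algebraMap B B' b ⊗ₜ[A'] algebraMap B B' c := by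
  simp [tensorMap]

theorem lmul'_tensorMap (ξ : B ⊗[A] B) :
    Algebra.TensorProduct.lmul' (S := B') A' (tensorMap A B A' B' ξ) =
      algebraMap B B' (Algebra.TensorProduct.lmul' (S := B) A ξ) := by
  induction ξ using TensorProduct.induction_on with
  | zero => simp
  | add x y hx hy => rw [map_add, map_add, hx, hy, map_add, map_add]
  | tmul b c => simp

theorem isBaseChange_tensorMap [h : Algebra.IsPushout A B A' B'] :
    IsBaseChange A' (tensorMap A B A' B').toLinearMap := by
  have hP : Algebra.IsPushout A A' B B' := h.symm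
  have hB : IsBaseChange A' (IsScalarTower.toAlgHom A B B').toLinearMap := hP.out
  have h1 := isBaseChange_tensorProduct_map (R := A) (S := A) (P := B) A' hB
  let e : B' ⊗[A] B ≃ₗ[A'] B' ⊗[A'] B' :=
    (AlgebraTensorModule.cancelBaseChange A A' A' B' B).symm ≪≫ₗ
      AlgebraTensorModule.congr (LinearEquiv.refl A' B') hB.equiv
  have h2 := IsBaseChange.comp h1 (IsBaseChange.ofEquiv e)
  have heq : (tensorMap A B A' B').toLinearMap =
      (e.toLinearMap.restrictScalars A) ∘ₗ
        AlgebraTensorModule.map (IsScalarTower.toAlgHom A B B').toLinearMap LinearMap.id := by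
    apply TensorProduct.ext'
    intro b c
    simp [e, IsBaseChange.equiv_tmul]
  rw [heq]
  exact h2

end

section
variable (A B A' B' : Type u) [CommRing A] [CommRing B] [CommRing A'] [CommRing B']
  [Algebra A B] [Algebra A A'] [Algebra A B'] [Algebra B B'] [Algebra A' B']
  [IsScalarTower A B B'] [IsScalarTower A A' B']

theorem noetherDifferent_flat_baseChange [h : Algebra.IsPushout A B A' B']
    [Algebra.FiniteType A B] [Module.Flat A A'] :
    Disc.noetherDifferent A' B' = (Disc.noetherDifferent A B).map (algebraMap B B') := by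
  have hP : Algebra.IsPushout A A' B B' := h.symm
  have hB : IsBaseChange A' (IsScalarTower.toAlgHom A B B').toLinearMap := hP.out
  set g := tensorMap A B A' B' with hg
  have hbc : IsBaseChange A' g.toLinearMap := isBaseChange_tensorMap
  -- generators of the Kaehler ideal
  obtain ⟨n, x, hx⟩ := Submodule.fg_iff_exists_fin_generating_family.mp
    (KaehlerDifferential.ideal_fg A B)
  have hxmem : ∀ j, x j ∈ KaehlerDifferential.ideal A B := fun j =>
    hx ▸ Submodule.subset_span ⟨j, rfl⟩
  have hannI : ∀ ξ : B ⊗[A] B, ξ ∈ Submodule.annihilator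
      (RingHom.ker (Algebra.TensorProduct.lmul' (S := B) A)) ↔ ∀ j, ξ * x j = 0 := by
    intro ξ
    change ξ ∈ Submodule.annihilator (KaehlerDifferential.ideal A B) ↔ _
    rw [← hx, Submodule.mem_annihilator_span]
    constructor
    · intro h1 j
      exact h1 ⟨x j, ⟨j, rfl⟩⟩
    · rintro h1 ⟨_, ⟨j, rfl⟩⟩
      exact h1 j
  -- annihilator upstairs
  have hkill : ∀ ξ' : B' ⊗[A'] B', (∀ j, ξ' * g (x j) = 0) →
      ∀ y ∈ KaehlerDifferential.ideal A B, ξ' * g y = 0 := by
    intro ξ' h1 y hy
    rw [← hx] at hy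
    refine Submodule.span_induction ?_ ?_ ?_ ?_ hy
    · rintro _ ⟨j, rfl⟩
      exact h1 j
    · simp
    · intro a b _ _ ha hb
      rw [map_add, mul_add, ha, hb, add_zero]
    · intro r a _ ha
      rw [smul_eq_mul, map_mul, mul_left_comm, ha, mul_zero]
  have hannI' : ∀ ξ' : B' ⊗[A'] B', ξ' ∈ Submodule.annihilator
      (RingHom.ker (Algebra.TensorProduct.lmul' (S := B') A')) ↔ ∀ j, ξ' * g (x j) = 0 := by
    intro ξ'
    constructor
    · intro h1 j
      have hmem : g (x j) ∈ RingHom.ker (Algebra.TensorProduct.lmul' (S := B') A') := by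
        rw [RingHom.mem_ker, hg, lmul'_tensorMap]
        have := hxmem j
        rw [RingHom.mem_ker] at this
        rw [this, map_zero]
      have := Submodule.mem_annihilator.mp h1 _ hmem
      simpa using this
    · intro h1
      change ξ' ∈ Submodule.annihilator (KaehlerDifferential.ideal A' B')
      rw [← KaehlerDifferential.span_range_eq_ideal, Ideal.span, Submodule.mem_annihilator_span]
      rintro ⟨_, ⟨s', rfl⟩⟩
      simp only [smul_eq_mul]
      refine hB.inductionOn s' (fun s' => ξ' * ((1 : B') ⊗ₜ[A'] s' - s' ⊗ₜ[A'] (1 : B')) = 0)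
        ?_ ?_ ?_ ?_
      · simp
      · intro b
        have h2 : (1 : B') ⊗ₜ[A'] (IsScalarTower.toAlgHom A B B').toLinearMap b -
            (IsScalarTower.toAlgHom A B B').toLinearMap b ⊗ₜ[A'] (1 : B') =
            g ((1 : B) ⊗ₜ[A] b - b ⊗ₜ[A] (1 : B)) := by
          rw [map_sub, hg, tensorMap_tmul, tensorMap_tmul, map_one]
          rfl
        rw [h2]
        exact hkill ξ' h1 _ (KaehlerDifferential.one_smul_sub_smul_one_mem_ideal A b)
      · intro a' y hy
        rw [TensorProduct.tmul_smul, ← TensorProduct.smul_tmul' a' y (1 : B'), ← smul_sub,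
          mul_smul_comm, hy, smul_zero]
      · intro y z hy hz
        rw [TensorProduct.tmul_add, TensorProduct.add_tmul, add_sub_add_comm, mul_add, hy, hz,
          add_zero]
  have hsurj : Function.Surjective (Algebra.TensorProduct.lmul' (S := B') A') := fun y =>
    ⟨y ⊗ₜ 1, by simp⟩
  have hsurj0 : Function.Surjective (Algebra.TensorProduct.lmul' (S := B) A) := fun y =>
    ⟨y ⊗ₜ 1, by simp⟩
  apply le_antisymm
  · intro d' hd'
    rw [Disc.noetherDifferent, Ideal.mem_map_iff_of_surjective _ hsurj] at hd'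
    obtain ⟨ξ', hξ', rfl⟩ := hd'
    have h1 := H5AnnBC.mem_span_of_forall_mul_eq_zero g hbc x ξ' ((hannI' ξ').mp hξ')
    refine Submodule.span_induction ?_ ?_ ?_ ?_ h1
    · rintro _ ⟨ξ, hξ, rfl⟩
      rw [hg, lmul'_tensorMap]
      apply Ideal.mem_map_of_mem
      exact Ideal.mem_map_of_mem _ ((hannI ξ).mpr hξ)
    · simp
    · intro a b _ _ ha hb
      rw [map_add]
      exact Ideal.add_mem _ ha hb
    · intro a' y _ hy
      rw [map_smul, Algebra.smul_def]
      exact Ideal.mul_mem_left _ _ hy
  · rw [Ideal.map_le_iff_le_comap]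
    intro d hd
    rw [Disc.noetherDifferent, Ideal.mem_map_iff_of_surjective _ hsurj0] at hd
    obtain ⟨ξ, hξ, rfl⟩ := hd
    rw [Ideal.mem_comap, ← lmul'_tensorMap (A' := A'), Disc.noetherDifferent]
    apply Ideal.mem_map_of_mem
    rw [hannI']
    intro j
    have := (hannI ξ).mp hξ j
    rw [← hg, ← map_mul, this, map_zero]

end

end H5Disc
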