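import Mathlib.RingTheory.Kaehler.Basic
import Mathlib.RingTheory.FiniteType
import Mathlib.AlgebraicGeometry.Morphisms.OpenImmersion
import Groth.Prelude.Def_Disc
import Groth.Agent.Lib.Helper5.Disc.AnnBC
import Groth.Agent.Lib.Helper5.Disc.FlatTensor
import Groth.Agent.Lib.Helper5.QFDual.OIBridge

set_option autoImplicit false
universe u
open TensorProduct AlgebraicGeometry CategoryTheory

namespace H5NoetherOI

variable {A B' B : Type u} [CommRing A] [CommRing B'] [CommRing B]
  [Algebra A B'] [Algebra A B] [Algebra B' B] [IsScalarTower A B' B]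

theorem epi_of_isOpenImmersion
    (h : IsOpenImmersion (Spec.map (CommRingCat.ofHom (algebraMap B' B)))) :
    Epi (CommRingCat.ofHom (algebraMap B' B)) := by
  haveI := h
  have hm : Mono (Spec.map (CommRingCat.ofHom (algebraMap B' B))) := inferInstance
  have hm' : Mono (Scheme.Spec.map (CommRingCat.ofHom (algebraMap B' B)).op) := hm
  have := Scheme.Spec.mono_of_mono_map hm'
  exact unop_epi_of_mono (CommRingCat.ofHom (algebraMap B' B)).op

/-- two ring homs out of `B` agreeing on `B'` are equal -/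
theorem ringHom_ext_of_isOpenImmersion
    (h : IsOpenImmersion (Spec.map (CommRingCat.ofHom (algebraMap B' B))))
    {Q : Type u} [CommRing Q] (ρ₁ ρ₂ : B →+* Q)
    (hρ : ρ₁.comp (algebraMap B' B) = ρ₂.comp (algebraMap B' B)) : ρ₁ = ρ₂ := by
  haveI := epi_of_isOpenImmersion h
  have : CommRingCat.ofHom (algebraMap B' B) ≫ CommRingCat.ofHom ρ₁ =
      CommRingCat.ofHom (algebraMap B' B) ≫ CommRingCat.ofHom ρ₂ := by
    ext x
    exact RingHom.congr_fun hρ x
  have h2 := (cancel_epi _).mp this
  exact congrArg CommRingCat.Hom.hom h2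

/-- the natural map `B' ⊗ B' → B ⊗ B` -/
noncomputable abbrev gmap : B' ⊗[A] B' →ₐ[A] B ⊗[A] B :=
  Algebra.TensorProduct.map (IsScalarTower.toAlgHom A B' B) (IsScalarTower.toAlgHom A B' B)

theorem lmul'_gmap (ξ : B' ⊗[A] B') :
    Algebra.TensorProduct.lmul' (S := B) A (gmap (A := A) (B' := B') (B := B) ξ) =
      algebraMap B' B (Algebra.TensorProduct.lmul' (S := B') A ξ) := by
  induction ξ using TensorProduct.induction_on with
  | zero => simp
  | add x y hx hy => rw [map_add, map_add, hx, hy, map_add, map_add]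
  | tmul b c => simp

/-- F2: the kernel of multiplication on `B ⊗ B` is generated by that of `B' ⊗ B'`. -/
theorem ker_eq_map (h : IsOpenImmersion (Spec.map (CommRingCat.ofHom (algebraMap B' B)))) :
    RingHom.ker (Algebra.TensorProduct.lmul' (S := B) A) =
      Ideal.map (gmap (A := A) (B' := B') (B := B)).toRingHom
        (RingHom.ker (Algebra.TensorProduct.lmul' (S := B') A)) := by
  set 𝔞 := Ideal.map (gmap (A := A) (B' := B') (B := B)).toRingHom
        (RingHom.ker (Algebra.TensorProduct.lmul' (S := B') A)) with h𝔞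
  apply le_antisymm
  · change KaehlerDifferential.ideal A B ≤ 𝔞
    rw [← KaehlerDifferential.span_range_eq_ideal, Ideal.span_le]
    rintro _ ⟨b, rfl⟩
    let ρ₁ : B →+* (B ⊗[A] B) ⧸ 𝔞 :=
      (Ideal.Quotient.mk 𝔞).comp (Algebra.TensorProduct.includeLeft (R := A) (S := A)
        (A := B) (B := B)).toRingHom
    let ρ₂ : B →+* (B ⊗[A] B) ⧸ 𝔞 :=
      (Ideal.Quotient.mk 𝔞).comp (Algebra.TensorProduct.includeRight (R := A)
        (A := B) (B := B)).toRingHom
    have hρ : ρ₁ = ρ₂ := by
      apply ringHom_ext_of_isOpenImmersion h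
      ext b'
      change Ideal.Quotient.mk 𝔞 (algebraMap B' B b' ⊗ₜ[A] (1 : B)) =
        Ideal.Quotient.mk 𝔞 ((1 : B) ⊗ₜ[A] algebraMap B' B b')
      rw [Ideal.Quotient.eq]
      have hmem : (b' ⊗ₜ[A] (1 : B') - (1 : B') ⊗ₜ[A] b') ∈
          RingHom.ker (Algebra.TensorProduct.lmul' (S := B') A) := by
        rw [RingHom.mem_ker]; simp
      have := Ideal.mem_map_of_mem (gmap (A := A) (B' := B') (B := B)).toRingHom hmem
      rw [h𝔞]
      simpa using this
    have := RingHom.congr_fun hρ b
    change Ideal.Quotient.mk 𝔞 (b ⊗ₜ[A] (1 : B)) = Ideal.Quotient.mk 𝔞 ((1 : B) ⊗ₜ[A] b) at this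
    rw [Ideal.Quotient.eq] at this
    have h2 := 𝔞.neg_mem this
    rwa [neg_sub] at h2
  · rw [h𝔞, Ideal.map_le_iff_le_comap]
    intro x hx
    rw [RingHom.mem_ker] at hx
    rw [Ideal.mem_comap, RingHom.mem_ker]
    change Algebra.TensorProduct.lmul' (S := B) A (gmap (A := A) (B' := B') (B := B) x) = 0
    rw [lmul'_gmap, hx, map_zero]

end H5NoetherOI

namespace H5NoetherOI

variable {A B' B : Type u} [CommRing A] [CommRing B'] [CommRing B]
  [Algebra A B'] [Algebra A B] [Algebra B' B] [IsScalarTower A B' B]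

theorem noetherDifferent_eq_map [Algebra.FiniteType A B']
    (h : IsOpenImmersion (Spec.map (CommRingCat.ofHom (algebraMap B' B)))) :
    Disc.noetherDifferent A B = (Disc.noetherDifferent A B').map (algebraMap B' B) := by
  classical
  set g := gmap (A := A) (B' := B') (B := B) with hg
  -- algebra structure
  letI : Algebra (B' ⊗[A] B') (B ⊗[A] B) := g.toRingHom.toAlgebra
  have hflatB : (algebraMap B' B).Flat :=
    RingHom.flat_algebraMap_iff.mpr (H5OIBridge.flat_of_isOpenImmersion h)
  haveI : Module.Flat (B' ⊗[A] B') (B ⊗[A] B) := H5FlatTensor.flat_map_map (A := A) hflatB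
  have halg : ∀ x : B' ⊗[A] B', algebraMap (B' ⊗[A] B') (B ⊗[A] B) x = g x := fun x => rfl
  -- generators of I'
  obtain ⟨n, x, hx⟩ := Submodule.fg_iff_exists_fin_generating_family.mp
    (KaehlerDifferential.ideal_fg A B')
  have hxmem : ∀ j, x j ∈ RingHom.ker (Algebra.TensorProduct.lmul' (S := B') A) := fun j => by
    change x j ∈ KaehlerDifferential.ideal A B'
    exact hx ▸ Submodule.subset_span ⟨j, rfl⟩
  have hannI' : ∀ ξ : B' ⊗[A] B', ξ ∈ Submodule.annihilator
      (RingHom.ker (Algebra.TensorProduct.lmul' (S := B') A)) ↔ ∀ j, ξ * x j = 0 := by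
    intro ξ
    change ξ ∈ Submodule.annihilator (KaehlerDifferential.ideal A B') ↔ _
    rw [← hx, Submodule.mem_annihilator_span]
    constructor
    · intro h1 j
      exact h1 ⟨x j, ⟨j, rfl⟩⟩
    · rintro h1 ⟨_, ⟨j, rfl⟩⟩
      exact h1 j
  have hker := ker_eq_map (A := A) h
  -- annihilators
  have hann : Submodule.annihilator (RingHom.ker (Algebra.TensorProduct.lmul' (S := B) A)) =
      Ideal.map g.toRingHom (Submodule.annihilator
        (RingHom.ker (Algebra.TensorProduct.lmul' (S := B') A))) := by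
    apply le_antisymm
    · intro ξ hξ
      have hkill : ∀ j, ξ * (Algebra.ofId (B' ⊗[A] B') (B ⊗[A] B)) (x j) = 0 := by
        intro j
        have hmem : g (x j) ∈ RingHom.ker (Algebra.TensorProduct.lmul' (S := B) A) := by
          rw [hker]
          exact Ideal.mem_map_of_mem _ (hxmem j)
        have := Submodule.mem_annihilator.mp hξ _ hmem
        rw [smul_eq_mul] at this
        rw [Algebra.ofId_apply, halg]; exact this
      have hbc : IsBaseChange (B ⊗[A] B)
          (Algebra.ofId (B' ⊗[A] B') (B ⊗[A] B)).toLinearMap :=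
        IsBaseChange.linearMap (B' ⊗[A] B') (B ⊗[A] B)
      have := H5AnnBC.mem_span_of_forall_mul_eq_zero
        (A := B' ⊗[A] B') (A' := B ⊗[A] B) (S := B' ⊗[A] B') (S' := B ⊗[A] B)
        (Algebra.ofId (B' ⊗[A] B') (B ⊗[A] B)) hbc x ξ hkill
      rw [Ideal.map, Ideal.span]
      refine Submodule.span_mono ?_ this
      rintro _ ⟨ξ', hξ', rfl⟩
      exact ⟨ξ', (hannI' ξ').mpr hξ', rfl⟩
    · rw [Ideal.map_le_iff_le_comap]
      intro ξ' hξ'
      rw [Ideal.mem_comap, Submodule.mem_annihilator]
      intro y hy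
      rw [hker] at hy
      rw [smul_eq_mul]
      refine Submodule.span_induction ?_ ?_ ?_ ?_ hy
      · rintro _ ⟨i', hi', rfl⟩
        change g ξ' * g i' = 0
        rw [← map_mul]
        have := Submodule.mem_annihilator.mp hξ' _ hi'
        rw [smul_eq_mul] at this
        rw [this, map_zero]
      · simp
      · intro a b _ _ ha hb
        rw [mul_add, ha, hb, add_zero]
      · intro r a _ ha
        rw [smul_eq_mul, mul_left_comm, ha, mul_zero]
  unfold Disc.noetherDifferent
  rw [hann]
  change Ideal.map (Algebra.TensorProduct.lmul' (S := B) A).toRingHom (Ideal.map g.toRingHom _) =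
    Ideal.map (algebraMap B' B) (Ideal.map (Algebra.TensorProduct.lmul' (S := B') A).toRingHom _)
  rw [Ideal.map_map, Ideal.map_map]
  congr 1
  apply RingHom.ext
  intro ξ
  exact lmul'_gmap (A := A) ξ

end H5NoetherOI
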