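import Mathlib.RingTheory.PicardGroup
import Mathlib.RingTheory.Norm.Defs
import Mathlib.RingTheory.Discriminant
import Mathlib.RingTheory.Artinian.Ring
import Mathlib.LinearAlgebra.TensorProduct.Quotient
import Mathlib.LinearAlgebra.Matrix.ToLinearEquiv
import Groth.Prelude.Def_Disc
import Groth.Agent.Lib.Helper5.Disc.InvDiff

set_option autoImplicit false
universe u
open TensorProduct

namespace H5NormDisc

variable {A B : Type u} [CommRing A] [CommRing B] [Algebra A B] {ι : Type*} [Fintype ι]
  [DecidableEq ι] (b : Module.Basis ι A B)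

/-- the dual basis element as an element of `Omega`. -/
noncomputable def coordΩ (i : ι) : Disc.Omega A B := ⟨b.coord i⟩

/-- `toLinearMap` as an additive hom -/
def toLMHom : Disc.Omega A B →+ (B →ₗ[A] A) where
  toFun := Disc.Omega.toLinearMap
  map_zero' := rfl
  map_add' _ _ := rfl

theorem sum_coord_apply (v : ι → A) (k : ι) :
    (∑ i, algebraMap A B (v i) • coordΩ b i).toLinearMap (b k) = v k := by
  change toLMHom (∑ i, algebraMap A B (v i) • coordΩ b i) (b k) = _
  rw [map_sum, LinearMap.sum_apply]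
  have : ∀ i, toLMHom (algebraMap A B (v i) • coordΩ b i) (b k) =
      if i = k then v i else 0 := by
    intro i
    change (algebraMap A B (v i) • coordΩ b i).toLinearMap (b k) = _
    rw [Disc.Omega.smul_toLinearMap_apply, ← Algebra.smul_def]
    change b.coord i _ = _
    rw [map_smul, Module.Basis.coord_apply, Module.Basis.repr_self, Finsupp.single_apply]
    by_cases h : i = k
    · subst h
      simp
    · rw [if_neg h, if_neg (fun h' => h h'.symm), smul_zero]
  simp only [this]
  simp

theorem omega_eq_sum (φ : Disc.Omega A B) :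
    φ = ∑ i, algebraMap A B (φ.toLinearMap (b i)) • coordΩ b i := by
  apply Disc.Omega.toLinearMap_injective
  apply b.ext
  intro k
  rw [sum_coord_apply]

theorem dual_apply_eq_sum (Φ : Disc.Omega A B →ₗ[B] B) (φ : Disc.Omega A B) :
    Φ φ = ∑ i, φ.toLinearMap (b i) • Φ (coordΩ b i) := by
  conv_lhs => rw [omega_eq_sum b φ]
  rw [map_sum]
  refine Finset.sum_congr rfl fun i _ => ?_
  rw [map_smul, smul_eq_mul, Algebra.smul_def]

/-- matrix of `Φ : ω → B` with respect to the dual basis and `b`. -/
noncomputable def mat (Φ : Disc.Omega A B →ₗ[B] B) : Matrix ι ι A :=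
  fun i j => b.repr (Φ (coordΩ b j)) i

theorem apply_sum_eq (Φ : Disc.Omega A B →ₗ[B] B) (v : ι → A) :
    Φ (∑ j, algebraMap A B (v j) • coordΩ b j) = ∑ i, (mat b Φ).mulVec v i • b i := by
  rw [map_sum]
  have h1 : ∀ j, Φ (algebraMap A B (v j) • coordΩ b j) =
      ∑ i, (mat b Φ i j * v j) • b i := by
    intro j
    rw [map_smul, smul_eq_mul, ← Algebra.smul_def]
    conv_lhs => rw [← b.sum_repr (Φ (coordΩ b j)), Finset.smul_sum]
    refine Finset.sum_congr rfl fun i _ => ?_
    rw [smul_smul, mul_comm]; rfl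
  simp only [h1]
  rw [Finset.sum_comm]
  refine Finset.sum_congr rfl fun i _ => ?_
  rw [← Finset.sum_smul]
  rfl

end H5NormDisc

namespace H5NormDisc

variable {A B : Type u} [CommRing A] [CommRing B] [Algebra A B] {ι : Type*} [Fintype ι]
  [DecidableEq ι] (b : Module.Basis ι A B)

theorem leftMulMatrix_eq [Module.Free A B] [Module.Finite A B] (Φ : Disc.Omega A B →ₗ[B] B) :
    Algebra.leftMulMatrix b (Φ (Disc.Omega.trace A B)) = mat b Φ * Algebra.traceMatrix A b := by
  ext i l
  rw [Algebra.leftMulMatrix_eq_repr_mul, Matrix.mul_apply]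
  have h1 : Φ (Disc.Omega.trace A B) * b l = Φ (b l • Disc.Omega.trace A B) := by
    rw [map_smul, smul_eq_mul, mul_comm]
  rw [h1, dual_apply_eq_sum b Φ, map_sum, Finset.sum_apply']
  refine Finset.sum_congr rfl fun j _ => ?_
  rw [map_smul, Finsupp.smul_apply, smul_eq_mul, mul_comm]
  congr 1
  rw [Disc.Omega.smul_toLinearMap_apply, Algebra.traceMatrix_apply, Algebra.traceForm_apply,
    mul_comm]
  rfl

theorem norm_eq [Module.Free A B] [Module.Finite A B] (Φ : Disc.Omega A B →ₗ[B] B) :
    Algebra.norm A (Φ (Disc.Omega.trace A B)) = (mat b Φ).det * Algebra.discr A b := by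
  rw [Algebra.norm_eq_matrix_det b, leftMulMatrix_eq, Matrix.det_mul, Algebra.discr_def]

end H5NormDisc

namespace H5NormDisc

variable {A B : Type u} [CommRing A] [CommRing B] [Algebra A B] {ι : Type*} [Fintype ι]
  [DecidableEq ι] (b : Module.Basis ι A B)

/-- elements of `(mB)·ω` take values in `m`. -/
theorem apply_mem_of_mem_smul (m : Ideal A) (w : Disc.Omega A B)
    (hw : w ∈ (m.map (algebraMap A B)) • (⊤ : Submodule B (Disc.Omega A B))) (x : B) :
    w.toLinearMap x ∈ m := by
  have hr : ∀ r ∈ m.map (algebraMap A B), ∀ (n : Disc.Omega A B) (x : B),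
      n.toLinearMap (r * x) ∈ m := by
    intro r hr
    refine Submodule.span_induction ?_ ?_ ?_ ?_ hr
    · rintro _ ⟨a, ha, rfl⟩ n x
      rw [← Algebra.smul_def, map_smul, smul_eq_mul]
      exact m.mul_mem_right _ ha
    · intro n x; simp
    · intro r s _ _ hr hs n x
      rw [add_mul, map_add]
      exact m.add_mem (hr n x) (hs n x)
    · intro c r _ hr n x
      rw [smul_eq_mul, mul_comm c r, mul_assoc]
      exact hr n (c * x)
  revert x
  refine Submodule.smul_induction_on hw ?_ ?_
  · intro r hr' n _ x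
    rw [Disc.Omega.smul_toLinearMap_apply]
    exact hr r hr' n x
  · intro w₁ w₂ h1 h2 x
    rw [Disc.Omega.add_toLinearMap, LinearMap.add_apply]
    exact m.add_mem (h1 x) (h2 x)

theorem span_det_eq_top [Module.Invertible B (Disc.Omega A B)] :
    Ideal.span (Set.range fun Φ : Disc.Omega A B →ₗ[B] B => (mat b Φ).det) = ⊤ := by
  classical
  by_contra hne
  obtain ⟨m, hm, hle⟩ := Ideal.exists_le_maximal _ hne
  haveI := hm
  letI : Field (A ⧸ m) := Ideal.Quotient.field m
  set I := m.map (algebraMap A B) with hI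
  haveI : Module.Finite A B := Module.Finite.of_basis b
  haveI : Module.Finite A (B ⧸ I) := Module.Finite.of_surjective
    ((Submodule.mkQ I).restrictScalars A) (Submodule.mkQ_surjective I)
  haveI : Module.Finite (A ⧸ m) (B ⧸ I) := Module.Finite.of_restrictScalars_finite A (A ⧸ m) (B ⧸ I)
  haveI : IsArtinianRing (B ⧸ I) := IsArtinianRing.of_finite (A ⧸ m) (B ⧸ I)
  -- the reduction of ω is free of rank one
  haveI : Module.Free (B ⧸ I) ((B ⧸ I) ⊗[B] Disc.Omega A B) := inferInstance
  obtain ⟨ψbar⟩ := (Module.Invertible.free_iff_linearEquiv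
    (R := B ⧸ I) (M := (B ⧸ I) ⊗[B] Disc.Omega A B)).mp inferInstance
  let f : Disc.Omega A B →ₗ[B] (B ⧸ I) :=
    (ψbar.toLinearMap.restrictScalars B) ∘ₗ (TensorProduct.mk B (B ⧸ I) (Disc.Omega A B) 1)
  obtain ⟨Φ, hΦ⟩ := Module.projective_lifting_property (Submodule.mkQ I) f
    (Submodule.mkQ_surjective I)
  have hdet : (mat b Φ).det ∈ m := hle (Ideal.subset_span ⟨Φ, rfl⟩)
  -- a kernel vector mod m
  have hdet0 : ((mat b Φ).map (Ideal.Quotient.mk m)).det = 0 := by
    rw [← RingHom.mapMatrix_apply, ← RingHom.map_det]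
    exact Ideal.Quotient.eq_zero_iff_mem.mpr hdet
  obtain ⟨vbar, hvbar, hv0⟩ := Matrix.exists_mulVec_eq_zero_iff.mpr hdet0
  choose v hv using fun j => Ideal.Quotient.mk_surjective (vbar j)
  have hPv : ∀ i, (mat b Φ).mulVec v i ∈ m := by
    intro i
    rw [← Ideal.Quotient.eq_zero_iff_mem]
    have := congrFun hv0 i
    rw [Matrix.mulVec, dotProduct] at this
    rw [Matrix.mulVec, dotProduct, map_sum]
    simp only [map_mul, hv]
    simpa [Matrix.map_apply] using this
  set w : Disc.Omega A B := ∑ j, algebraMap A B (v j) • coordΩ b j with hw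
  have hΦw : Φ w ∈ I := by
    rw [hw, apply_sum_eq]
    refine Ideal.sum_mem _ fun i _ => ?_
    rw [Algebra.smul_def]
    exact Ideal.mul_mem_right _ _ (Ideal.mem_map_of_mem _ (hPv i))
  have hfw : f w = 0 := by
    have := LinearMap.congr_fun hΦ w
    rw [LinearMap.comp_apply] at this
    rw [← this]
    exact (Submodule.Quotient.mk_eq_zero I).mpr hΦw
  have h1w : (1 : B ⧸ I) ⊗ₜ[B] w = 0 := by
    apply ψbar.injective
    rw [map_zero]
    exact hfw
  have hwmem : w ∈ I • (⊤ : Submodule B (Disc.Omega A B)) := by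
    have := congrArg (TensorProduct.quotTensorEquivQuotSMul (Disc.Omega A B) I) h1w
    rw [TensorProduct.quotTensorEquivQuotSMul_mk_one_tmul, map_zero] at this
    exact (Submodule.Quotient.mk_eq_zero _).mp this
  apply hvbar
  funext j
  have := apply_mem_of_mem_smul m w hwmem (b j)
  rw [hw, sum_coord_apply] at this
  rw [← hv j]
  exact Ideal.Quotient.eq_zero_iff_mem.mpr this

end H5NormDisc

namespace H5NormDisc

variable {A B : Type u} [CommRing A] [CommRing B] [Algebra A B] {ι : Type*} [Fintype ι]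
  [DecidableEq ι] (b : Module.Basis ι A B)

theorem discr_mem_span_norm [Module.Invertible B (Disc.Omega A B)] :
    Algebra.discr A b ∈ Ideal.span (Algebra.norm A '' Disc.differentSet A B) := by
  haveI : Module.Finite A B := Module.Finite.of_basis b
  haveI : Module.Free A B := Module.Free.of_basis b
  have key : ∀ a ∈ Ideal.span (Set.range fun Φ : Disc.Omega A B →ₗ[B] B => (mat b Φ).det),
      a * Algebra.discr A b ∈ Ideal.span (Algebra.norm A '' Disc.differentSet A B) := by
    intro a ha
    refine Submodule.span_induction ?_ ?_ ?_ ?_ ha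
    · rintro _ ⟨Φ, rfl⟩
      rw [← norm_eq]
      refine Ideal.subset_span ⟨_, ?_, rfl⟩
      rw [H5Disc.differentSet_eq_noetherDifferent_of_invertible,
        H5Disc.noetherDifferent_eq_range_eval_trace]
      exact ⟨Φ, rfl⟩
    · rw [zero_mul]; exact Ideal.zero_mem _
    · intro x y _ _ hx hy
      rw [add_mul]; exact Ideal.add_mem _ hx hy
    · intro c x _ hx
      rw [smul_eq_mul, mul_assoc]; exact Ideal.mul_mem_left _ _ hx
  have := key 1 (by rw [span_det_eq_top b]; trivial)
  rwa [one_mul] at this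

end H5NormDisc
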